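import Groth.Agent.Lib.KCoh4.Filt
import Groth.Agent.Lib.KCoh4.Loc
import Groth.Agent.Lib.TensorMod.Restrict
import Groth.Prelude.Def_DCoh4
import Groth.Prelude.Def_SGA6
import Groth.Prelude.Def_FlatMod2

/-!
# Tensoring with a locally free module minus the rank is nilpotent on the K-group of coherent modules
-/

set_option autoImplicit false
set_option linter.style.haveILetI false
set_option backward.isDefEq.respectTransparency false
set_option maxHeartbeats 1000000

universe u

open CategoryTheory CategoryTheory.Limits AlgebraicGeometry TopologicalSpace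

namespace Groth.Agent.KTensor28

open Groth.Agent Groth.Agent.KCoh4

variable {X : Scheme.{u}} [IsNoetherian X]

/-- Classes of coherent modules supported in `C`. -/
noncomputable def supported (C : Set X) : AddSubgroup (KZero.K0sub (fun M : X.Modules => Coh.IsCoh M)) :=
  AddSubgroup.closure {c | ∃ G : X.Modules, Coh.IsCoh G ∧ CohB1.support G ⊆ C ∧ c = kc G}

theorem kc_mem {C : Set X} {G : X.Modules} (hG : Coh.IsCoh G) (h : CohB1.support G ⊆ C) : kc G ∈ supported C :=
  AddSubgroup.subset_closure ⟨G, hG, h, rfl⟩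

/-- Morphisms with an isomorphism over `U` between modules supported in a closed `C`. -/
theorem sub_mem_of_isIso' (U : X.Opens) {C : Set X} (hC : IsClosed C) {F T : X.Modules} (hF : Coh.IsCoh F)
    (hT : Coh.IsCoh T) (hsF : CohB1.support F ⊆ C) (hsT : CohB1.support T ⊆ C) (β : F ⟶ T)
    [IsIso ((Scheme.Modules.restrictFunctor U.ι).map β)] :
    kc F - kc T ∈ supported (C ∩ (U : Set X)ᶜ) := by
  let R := Scheme.Modules.restrictFunctor U.ι
  let O : X.Opens := ⟨Cᶜ, hC.isOpen_compl⟩
  let R' := Scheme.Modules.restrictFunctor O.ι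
  haveI : PreservesBinaryBiproducts R' := preservesBinaryBiproducts_of_preservesBiproducts R'
  have hU : Set.range U.ι = ((U : Set X)ᶜ)ᶜ := by rw [compl_compl, Scheme.Opens.range_ι]
  have hO : Set.range O.ι = Cᶜ := Scheme.Opens.range_ι O
  have hk := M1.isCoh_kernel hF hT.1 β
  have hc := M1.isCoh_cokernel hF.1 hT β
  have hi := isCoh_image hF hT.1 β
  have h1 : kc F = kc (kernel β) + kc (Abelian.image β) := kc_ses (K0Cat.shortExact_kernel_image β) hk hF hi
  let S : ShortComplex X.Modules := ShortComplex.mk (Abelian.image.ι β) (cokernel.π β) (kernel.condition _)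
  have hS : S.ShortExact := ShortComplex.ShortExact.mk' (ShortComplex.exact_of_f_is_kernel _ (kernelIsKernel _))
    inferInstance inferInstance
  have h2 : kc T = kc (Abelian.image β) + kc (cokernel β) := kc_ses hS hi hT hc
  have hkz : IsZero (R.obj (kernel β)) :=
    (isZero_kernel_of_mono (R.map β)).of_iso (PreservesKernel.iso R β)
  have hcz : IsZero (R.obj (cokernel β)) :=
    (isZero_cokernel_of_epi (R.map β)).of_iso (PreservesCokernel.iso R β)
  have hkC : CohB1.support (kernel β) ⊆ C := by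
    haveI : Mono (R'.map (kernel.ι β)) := inferInstance
    exact support_subset_of_isZero O.ι hO (IsZero.of_mono (R'.map (kernel.ι β)) (isZero_of_support O.ι hO hsF))
  have hcC : CohB1.support (cokernel β) ⊆ C := by
    haveI : Epi (R'.map (cokernel.π β)) := inferInstance
    exact support_subset_of_isZero O.ι hO (IsZero.of_epi (R'.map (cokernel.π β)) (isZero_of_support O.ι hO hsT))
  have h3 : kc F - kc T = kc (kernel β) - kc (cokernel β) := by rw [h1, h2]; abel
  rw [h3]
  exact AddSubgroup.sub_mem _ (kc_mem hk (Set.subset_inter hkC (support_subset_of_isZero U.ι hU hkz)))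
    (kc_mem hc (Set.subset_inter hcC (support_subset_of_isZero U.ι hU hcz)))

/-- Modules isomorphic over `U`. -/
theorem sub_mem_of_restrict_iso (U : X.Opens) {C : Set X} (hC : IsClosed C) {F G : X.Modules} (hF : Coh.IsCoh F)
    (hG : Coh.IsCoh G) (hsF : CohB1.support F ⊆ C) (hsG : CohB1.support G ⊆ C)
    (e : F.restrict U.ι ≅ G.restrict U.ι) : kc F - kc G ∈ supported (C ∩ (U : Set X)ᶜ) := by
  let R := Scheme.Modules.restrictFunctor U.ι
  let P := Scheme.Modules.pushforward U.ι
  let adj := Scheme.Modules.restrictAdjunction U.ι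
  let O : X.Opens := ⟨Cᶜ, hC.isOpen_compl⟩
  let R' := Scheme.Modules.restrictFunctor O.ι
  haveI : PreservesBinaryBiproducts R' := preservesBinaryBiproducts_of_preservesBiproducts R'
  have hO : Set.range O.ι = Cᶜ := Scheme.Opens.range_ι O
  let M := G.restrict U.ι
  let α : F ⟶ P.obj M := adj.homEquiv _ _ e.hom
  let α' : G ⟶ P.obj M := adj.homEquiv _ _ (𝟙 _)
  have hiso : ∀ {K : X.Modules} (f : K.restrict U.ι ⟶ M), IsIso f → IsIso (R.map (adj.homEquiv _ _ f)) := by
    intro K f hf
    have h : R.map (adj.homEquiv _ _ f) ≫ adj.counit.app M = f :=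
      (adj.homEquiv_counit _ _ (adj.homEquiv _ _ f)).symm.trans (Equiv.symm_apply_apply _ f)
    haveI : IsIso (R.map (adj.homEquiv _ _ f) ≫ adj.counit.app M) := by rw [h]; exact hf
    exact IsIso.of_isIso_comp_right _ (adj.counit.app M)
  have hM : Coh.IsQCoh (P.obj M) := isQCoh_pushOpen U.ι (M1.isQCoh_restrict hG.1 U.ι)
  let q : F ⊞ G ⟶ P.obj M := biprod.desc α α'
  have hFG := M1.isCoh_biprod hF hG
  have hT := isCoh_image hFG hM q
  have hFGC : CohB1.support (F ⊞ G) ⊆ C := by
    refine support_subset_of_isZero O.ι hO (IsZero.of_iso ?_ (R'.mapBiprod F G))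
    rw [biprod_isZero_iff]
    exact ⟨isZero_of_support O.ι hO hsF, isZero_of_support O.ι hO hsG⟩
  have hTC : CohB1.support (Abelian.image q) ⊆ C := by
    haveI : Epi (R'.map (Abelian.factorThruImage q)) := inferInstance
    exact support_subset_of_isZero O.ι hO
      (IsZero.of_epi (R'.map (Abelian.factorThruImage q)) (isZero_of_support O.ι hO hFGC))
  have key : ∀ {K : X.Modules} (γ : K ⟶ F ⊞ G), IsIso (R.map (γ ≫ q)) →
      IsIso (R.map (γ ≫ Abelian.factorThruImage q)) := fun {K} γ hγ => by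
    have e' : R.map (γ ≫ Abelian.factorThruImage q) ≫ R.map (Abelian.image.ι q) = R.map (γ ≫ q) := by
      rw [← Functor.map_comp, Category.assoc, Abelian.image.fac]
    haveI hi' : IsIso (R.map (γ ≫ Abelian.factorThruImage q) ≫ R.map (Abelian.image.ι q)) := e' ▸ hγ
    haveI : Epi (R.map (γ ≫ Abelian.factorThruImage q) ≫ R.map (Abelian.image.ι q)) := @IsIso.epi_of_iso _ _ _ _ _ hi'
    haveI : Epi (R.map (Abelian.image.ι q)) :=
      epi_of_epi (R.map (γ ≫ Abelian.factorThruImage q)) (R.map (Abelian.image.ι q))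
    haveI : IsIso (R.map (Abelian.image.ι q)) := isIso_of_mono_of_epi _
    exact IsIso.of_isIso_comp_right _ (R.map (Abelian.image.ι q))
  haveI := key biprod.inl (by rw [biprod.inl_desc]; exact hiso _ inferInstance)
  haveI := key biprod.inr (by rw [biprod.inr_desc]; exact hiso _ inferInstance)
  have h1 := sub_mem_of_isIso' U hC hF hT hsF hTC (biprod.inl ≫ Abelian.factorThruImage q)
  have h2 := sub_mem_of_isIso' U hC hG hT hsG hTC (biprod.inr ≫ Abelian.factorThruImage q)
  have h3 := AddSubgroup.sub_mem _ h1 h2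
  rwa [sub_sub_sub_cancel_right] at h3

section Tensor

variable (M : X.Modules)

omit [AlgebraicGeometry.IsNoetherian X] in
theorem freeMod_succ (n : ℕ) :
    Nonempty (FlatMod.freeMod X (n + 1) ≅ FlatMod.freeMod X n ⊞ Coh.structureModule X) := by
  refine ⟨{
    hom := Sigma.desc (Fin.cases biprod.inr fun i => Sigma.ι (fun _ : Fin n => Coh.structureModule X) i ≫ biprod.inl)
    inv := biprod.desc (Sigma.desc fun i => Sigma.ι (fun _ : Fin (n + 1) => Coh.structureModule X) i.succ)
      (Sigma.ι (fun _ : Fin (n + 1) => Coh.structureModule X) 0)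
    hom_inv_id := ?_
    inv_hom_id := ?_ }⟩
  · refine Sigma.hom_ext _ _ fun i => ?_
    induction i using Fin.cases <;> simp
  · refine biprod.hom_ext' _ _ (Sigma.hom_ext _ _ fun i => ?_) ?_ <;> simp

theorem isCoh_and_kc_freeTensor (hM : Coh.IsCoh M) : ∀ n : ℕ,
    Coh.IsCoh (CohB1.tensorMod (FlatMod.freeMod X n) M) ∧ kc (CohB1.tensorMod (FlatMod.freeMod X n) M) = n • kc M := by
  let G := (DCoh.tensorBi (X := X)).flip.obj M
  intro n
  induction n with
  | zero =>
    have h0 : IsZero (FlatMod.freeMod X 0) := by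
      refine (IsZero.iff_id_eq_zero _).2 (Sigma.hom_ext _ _ fun i => Fin.elim0 i)
    have hz : IsZero (CohB1.tensorMod (FlatMod.freeMod X 0) M) := G.map_isZero h0
    have hc : Coh.IsCoh (cokernel (𝟙 M)) := M1.isCoh_cokernel hM.1 hM (𝟙 M)
    let e := (isZero_cokernel_of_epi (𝟙 M)).iso hz
    have hcoh : Coh.IsCoh (CohB1.tensorMod (FlatMod.freeMod X 0) M) :=
      ⟨M1.isQCoh_of_isIso e hc.1, M1.isFT_of_isIso e hc.2⟩
    exact ⟨hcoh, by rw [zero_smul]; exact K0Cat.clSub_of_isZero hz hcoh⟩
  | succ n ih =>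
    obtain ⟨f⟩ := freeMod_succ (X := X) n
    haveI : PreservesBinaryBiproducts G := preservesBinaryBiproducts_of_preservesBiproducts G
    let e : CohB1.tensorMod (FlatMod.freeMod X (n + 1)) M ≅ CohB1.tensorMod (FlatMod.freeMod X n) M ⊞ M :=
      G.mapIso f ≪≫ G.mapBiprod _ _ ≪≫ biprod.mapIso (Iso.refl _) (M2.tensorLUnit M)
    have hs := M1.isCoh_biprod ih.1 hM
    refine ⟨⟨M1.isQCoh_of_isIso e.symm hs.1, M1.isFT_of_isIso e.symm hs.2⟩, ?_⟩
    have hses : (ShortComplex.mk (biprod.inl : _ ⟶ CohB1.tensorMod (FlatMod.freeMod X n) M ⊞ M) biprod.snd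
        biprod.inl_snd).ShortExact := (ShortComplex.Splitting.ofHasBinaryBiproduct _ _).shortExact
    rw [kc_iso e, kc_ses hses ih.1 hs hM, ih.2, succ_nsmul]

omit [AlgebraicGeometry.IsNoetherian X] in
theorem restrict_freeMod (U : X.Opens) (n : ℕ) :
    Nonempty ((FlatMod.freeMod X n).restrict U.ι ≅ FlatMod.freeMod (U : Scheme.{u}) n) := by
  haveI : PreservesColimitsOfShape (Discrete (Fin n)) (Scheme.Modules.restrictFunctor U.ι) :=
    (Scheme.Modules.restrictAdjunction U.ι).leftAdjoint_preservesColimits.preservesColimitsOfShape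
  exact ⟨PreservesCoproduct.iso (Scheme.Modules.restrictFunctor U.ι) _ ≪≫
    Sigma.mapIso fun _ => Scheme.Modules.restrictUnitIso _⟩

end Tensor

omit [AlgebraicGeometry.IsNoetherian X] in
theorem tensorBi_obj {Y : Scheme.{u}} (A B : Y.Modules) :
    ((DCoh.tensorBi (X := Y)).obj A).obj B = CohB1.tensorMod A B := rfl

omit [AlgebraicGeometry.IsNoetherian X] in
theorem support_tensor (V M : X.Modules) {C : Set X} (hC : IsClosed C) (h : CohB1.support M ⊆ C) :
    CohB1.support (CohB1.tensorMod V M) ⊆ C := by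
  let O : X.Opens := ⟨Cᶜ, hC.isOpen_compl⟩
  have hO : Set.range O.ι = Cᶜ := Scheme.Opens.range_ι O
  refine support_subset_of_isZero O.ι hO (IsZero.of_iso ?_ (M2.restrictTensorIso O.ι V M))
  rw [← tensorBi_obj]
  exact Functor.map_isZero _ (isZero_of_support O.ι hO h)

theorem step (r : ℕ) (V : X.Modules) [PreservesFiniteLimits ((DCoh.tensorBi (X := X)).obj V)]
    [PreservesFiniteColimits ((DCoh.tensorBi (X := X)).obj V)]
    (hVc : ∀ M : X.Modules, Coh.IsCoh M → Coh.IsCoh (((DCoh.tensorBi (X := X)).obj V).obj M))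
    (U : X.Opens) (e : V.restrict U.ι ≅ FlatMod.freeMod (U : Scheme.{u}) r) {C : Set X} (hC : IsClosed C)
    {y : SGA6.Kcoh X} (hy : y ∈ supported C) :
    (SGA6.mapSub ((DCoh.tensorBi (X := X)).obj V) (fun M : X.Modules => Coh.IsCoh M)
      (fun M : X.Modules => Coh.IsCoh M) hVc - r • AddMonoidHom.id (SGA6.Kcoh X)) y ∈
      supported (C ∩ (U : Set X)ᶜ) := by
  set T := SGA6.mapSub ((DCoh.tensorBi (X := X)).obj V) (fun M : X.Modules => Coh.IsCoh M)
      (fun M : X.Modules => Coh.IsCoh M) hVc - r • AddMonoidHom.id (SGA6.Kcoh X) with hTdef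
  suffices supported C ≤ (supported (C ∩ (U : Set X)ᶜ)).comap T from this hy
  refine (AddSubgroup.closure_le _).2 ?_
  rintro _ ⟨M, hM, hMs, rfl⟩
  rw [SetLike.mem_coe, AddSubgroup.mem_comap, hTdef, AddMonoidHom.sub_apply, AddMonoidHom.smul_apply,
    AddMonoidHom.id_apply, mapSub_kc _ hVc hM]
  obtain ⟨hF, hFk⟩ := isCoh_and_kc_freeTensor M hM r
  rw [← hFk]
  obtain ⟨f⟩ := restrict_freeMod U r (X := X)
  exact sub_mem_of_restrict_iso U hC (hVc M hM) hF (support_tensor V M hC hMs) (support_tensor _ M hC hMs)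
    (M2.restrictTensorIso U.ι V M ≪≫ M2.tensorIso (e ≪≫ f.symm) (Iso.refl _) ≪≫
      (M2.restrictTensorIso U.ι (FlatMod.freeMod X r) M).symm)

theorem supported_univ (y : SGA6.Kcoh X) : y ∈ supported (Set.univ : Set X) := by
  refine K0Cat.clSub_induction (P := fun M : X.Modules => Coh.IsCoh M) (p := fun y => y ∈ supported Set.univ) y
    (AddSubgroup.zero_mem _) ?_ ?_ ?_
  · exact fun M hM => kc_mem hM (Set.subset_univ _)
  · exact fun a ha => AddSubgroup.neg_mem _ ha
  · exact fun a b ha hb => AddSubgroup.add_mem _ ha hb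

theorem supported_empty {y : SGA6.Kcoh X} (hy : y ∈ supported (∅ : Set X)) : y = 0 := by
  suffices supported (∅ : Set X) ≤ ⊥ from (AddSubgroup.mem_bot).1 (this hy)
  refine (AddSubgroup.closure_le _).2 ?_
  rintro _ ⟨M, hM, hMs, rfl⟩
  refine (AddSubgroup.mem_bot).2 (K0Cat.clSub_of_isZero (isZero_of_stalks fun x => ?_) hM)
  by_contra h
  exact hMs h

theorem exists_iterate_eq_zero (r : ℕ) (V : X.Modules) (hV : FlatMod.IsFinLocFreeOfRank r V)
    [PreservesFiniteLimits ((DCoh.tensorBi (X := X)).obj V)]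
    [PreservesFiniteColimits ((DCoh.tensorBi (X := X)).obj V)]
    (hVc : ∀ M : X.Modules, Coh.IsCoh M → Coh.IsCoh (((DCoh.tensorBi (X := X)).obj V).obj M)) :
    ∃ n : ℕ, ∀ y : SGA6.Kcoh X,
      (⇑(SGA6.mapSub ((DCoh.tensorBi (X := X)).obj V) (fun M : X.Modules => Coh.IsCoh M)
        (fun M : X.Modules => Coh.IsCoh M) hVc - r • AddMonoidHom.id (SGA6.Kcoh X)))^[n] y = 0 := by
  classical
  choose U hxU hU using hV
  obtain ⟨s, hs⟩ := (isCompact_univ (X := X)).elim_finite_subcover (fun x => (U x : Set X)) (fun x => (U x).isOpen)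
    (fun x _ => Set.mem_iUnion.2 ⟨x, hxU x⟩)
  refine ⟨s.toList.length, fun y => ?_⟩
  set T := SGA6.mapSub ((DCoh.tensorBi (X := X)).obj V) (fun M : X.Modules => Coh.IsCoh M)
      (fun M : X.Modules => Coh.IsCoh M) hVc - r • AddMonoidHom.id (SGA6.Kcoh X)
  have key : ∀ (l : List X) (C : Set X), IsClosed C → ∀ y ∈ supported C,
      (⇑T)^[l.length] y ∈ supported (C ∩ {z | ∀ x ∈ l, z ∉ U x}) := by
    intro l
    induction l with
    | nil => intro C _ y hy; simpa using hy
    | cons x l ih =>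
      intro C hC y hy
      rw [List.length_cons, Function.iterate_succ_apply]
      have := ih _ (hC.inter (U x).isOpen.isClosed_compl) _ (step r V hVc (U x) (hU x).some hC hy)
      have heq : (C ∩ (U x : Set X)ᶜ) ∩ {z | ∀ x' ∈ l, z ∉ U x'} = C ∩ {z | ∀ x' ∈ x :: l, z ∉ U x'} := by
        ext z; simp [and_assoc]
      rwa [heq] at this
  have := key s.toList Set.univ isClosed_univ y (supported_univ y)
  refine supported_empty ?_
  have he : Set.univ ∩ {z : X | ∀ x ∈ s.toList, z ∉ U x} = ∅ := by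
    refine Set.eq_empty_of_forall_notMem fun z hz => ?_
    obtain ⟨x, hx⟩ := Set.mem_iUnion.1 (hs (Set.mem_univ z))
    obtain ⟨hxs, hzx⟩ := Set.mem_iUnion.1 hx
    exact hz.2 x (Finset.mem_toList.2 hxs) hzx
  rwa [he] at this

end Groth.Agent.KTensor28
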